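import Groth.Agent.Lib.PicAff26.Algebra
import Groth.Agent.Lib.InvExt.UFD
import Groth.Agent.Lib.RelSpec.Basic
import Mathlib.AlgebraicGeometry.AffineSpace
import Mathlib.AlgebraicGeometry.Morphisms.Affine
import Mathlib.AlgebraicGeometry.Morphisms.UniversallyOpen
import Mathlib.AlgebraicGeometry.Morphisms.Flat
import Mathlib.AlgebraicGeometry.Geometrically.Integral

/-!
# Affine charts of affine space over an integral scheme
-/

universe u

open CategoryTheory CategoryTheory.Limits Opposite TopologicalSpace AlgebraicGeometry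
open GrothLib GrothLib.InvExt

set_option backward.isDefEq.respectTransparency false

noncomputable section

namespace GrothLib.PicAff26

variable {n : Type u} [Finite n] {Y : Scheme.{u}} {B : Y.Opens} (hB : IsAffineOpen B)

/-- The preimage of an affine open. -/
abbrev tOpen (n : Type u) (B : Y.Opens) : (𝔸(n; Y)).Opens := (𝔸(n; Y) ↘ Y) ⁻¹ᵁ B

include hB in
theorem isAffineOpen_tOpen : IsAffineOpen (tOpen n B) := hB.preimage (𝔸(n; Y) ↘ Y)

/-- The chart. -/
def chartMap : Spec (CommRingCat.of (MvPolynomial n Γ(Y, B))) ⟶ 𝔸(n; Y) :=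
  (AffineSpace.SpecIso n Γ(Y, B)).inv ≫ AffineSpace.map n hB.fromSpec

theorem isPullback_chartMap :
    IsPullback (chartMap hB) (Spec.map (CommRingCat.ofHom (MvPolynomial.C : Γ(Y, B) →+* MvPolynomial n Γ(Y, B))))
      (𝔸(n; Y) ↘ Y) hB.fromSpec := by
  have h1 : IsPullback (AffineSpace.SpecIso n Γ(Y, B)).inv
      (Spec.map (CommRingCat.ofHom (MvPolynomial.C : Γ(Y, B) →+* MvPolynomial n Γ(Y, B))))
      (𝔸(n; Spec Γ(Y, B)) ↘ Spec Γ(Y, B)) (𝟙 (Spec Γ(Y, B))) :=
    IsPullback.of_horiz_isIso ⟨(AffineSpace.SpecIso_inv_over _).trans (Category.comp_id _).symm⟩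
  have h2 := h1.paste_horiz (AffineSpace.isPullback_map hB.fromSpec)
  exact IsPullback.of_iso h2 (Iso.refl _) (Iso.refl _) (Iso.refl _) (Iso.refl _)
    ((Category.comp_id _).trans (Category.id_comp _).symm) ((Category.comp_id _).trans (Category.id_comp _).symm)
    ((Category.comp_id _).trans (Category.id_comp _).symm)
    ((Category.comp_id _).trans ((Category.id_comp _).trans (Category.id_comp _).symm))

instance : IsOpenImmersion (chartMap (n := n) hB) :=
  MorphismProperty.of_isPullback (P := @IsOpenImmersion) (isPullback_chartMap hB).flip inferInstance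

theorem opensRange_chartMap : (chartMap (n := n) hB).opensRange = tOpen n B := by
  refine Opens.ext ?_
  show Set.range (chartMap (n := n) hB).base = (𝔸(n; Y) ↘ Y).base ⁻¹' (B : Set Y)
  rw [← hB.range_fromSpec]
  refine Set.Subset.antisymm ?_ ?_
  · rintro _ ⟨x, rfl⟩
    exact ⟨_, (congrArg (fun f : _ ⟶ Y => f.base x) (isPullback_chartMap hB).w).symm⟩
  · rintro z ⟨y, hy⟩
    obtain ⟨x, hx, -⟩ := Scheme.exists_preimage_of_isPullback (isPullback_chartMap hB) z y hy.symm
    exact ⟨x, hx⟩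

/-- The coordinate ring of a chart. -/
def coordEquiv : Γ(𝔸(n; Y), tOpen n B) ≃+* MvPolynomial n Γ(Y, B) :=
  haveI : IsIso ((chartMap hB).appLE (tOpen n B) ⊤ (fun p _ => (opensRange_chartMap (n := n) hB).le ⟨p, rfl⟩) ≫
      (Scheme.ΓSpecIso (CommRingCat.of (MvPolynomial n Γ(Y, B)))).hom) := by
    have hW : tOpen n B = chartMap (n := n) hB ''ᵁ ⊤ := by
      rw [Scheme.Hom.image_top_eq_opensRange, opensRange_chartMap]
    have : IsIso ((chartMap hB).appLE (tOpen n B) ⊤ (by rw [hW, Scheme.Hom.preimage_image_eq])) := by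
      rw [show (chartMap hB).appLE (tOpen n B) ⊤ _ = (𝔸(n; Y)).presheaf.map (eqToHom hW.symm).op ≫
          (chartMap hB).appLE (chartMap hB ''ᵁ ⊤) ⊤ (by rw [Scheme.Hom.preimage_image_eq]) from
        ((chartMap hB).map_appLE _ _).symm, ← Scheme.Hom.appIso_hom']
      infer_instance
    exact IsIso.comp_isIso
  (asIso ((chartMap hB).appLE (tOpen n B) ⊤ (fun p _ => (opensRange_chartMap (n := n) hB).le ⟨p, rfl⟩) ≫
      (Scheme.ΓSpecIso (CommRingCat.of (MvPolynomial n Γ(Y, B)))).hom)).commRingCatIsoToRingEquiv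

theorem coordEquiv_app (r : Γ(Y, B)) :
    coordEquiv (n := n) hB (((𝔸(n; Y) ↘ Y).app B).hom r) = MvPolynomial.C r :=
  congrArg (fun k => k.hom r)
    (RelSpec.appLE_app_aux hB (chartMap hB) (𝔸(n; Y) ↘ Y) _ (isPullback_chartMap hB).w _)

theorem coordEquiv_symm_C (r : Γ(Y, B)) :
    (coordEquiv (n := n) hB).symm (MvPolynomial.C r) = ((𝔸(n; Y) ↘ Y).app B).hom r := by
  rw [RingEquiv.symm_apply_eq, coordEquiv_app]

/-- The prime of a point of a chart, in polynomial coordinates. -/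
def primeOf {z : 𝔸(n; Y)} (hz : z ∈ tOpen n B) : Ideal (MvPolynomial n Γ(Y, B)) :=
  ((isAffineOpen_tOpen hB).primeIdealOf ⟨z, hz⟩).asIdeal.comap (coordEquiv hB).symm.toRingHom

instance {z : 𝔸(n; Y)} (hz : z ∈ tOpen n B) : (primeOf hB hz).IsPrime := Ideal.comap_isPrime _ _

/-- The point of a prime. -/
def pointOf (Q : Ideal (MvPolynomial n Γ(Y, B))) [Q.IsPrime] : 𝔸(n; Y) :=
  (isAffineOpen_tOpen hB).fromSpec ⟨Q.comap (coordEquiv hB).toRingHom, Ideal.comap_isPrime _ _⟩

theorem pointOf_mem (Q : Ideal (MvPolynomial n Γ(Y, B))) [Q.IsPrime] : pointOf hB Q ∈ tOpen n B :=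
  (isAffineOpen_tOpen hB).range_fromSpec.le ⟨_, rfl⟩

theorem primeOf_pointOf (Q : Ideal (MvPolynomial n Γ(Y, B))) [Q.IsPrime] :
    primeOf hB (pointOf_mem hB Q) = Q := by
  have h := (isAffineOpen_tOpen hB).fromSpec_primeIdealOf ⟨_, pointOf_mem hB Q⟩
  rw [primeOf, (isAffineOpen_tOpen hB).fromSpec.isOpenEmbedding.injective h]
  refine Ideal.ext fun q => ?_
  show coordEquiv hB ((coordEquiv hB).symm q) ∈ Q ↔ q ∈ Q
  rw [RingEquiv.apply_symm_apply]

theorem pointOf_specializes {Q : Ideal (MvPolynomial n Γ(Y, B))} [Q.IsPrime] {z : 𝔸(n; Y)}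
    (hz : z ∈ tOpen n B) (h : Q ≤ primeOf hB hz) : pointOf hB Q ⤳ z := by
  refine Eq.subst (motive := fun w => pointOf hB Q ⤳ w) ((isAffineOpen_tOpen hB).fromSpec_primeIdealOf ⟨z, hz⟩) ?_
  refine Specializes.map ?_ (isAffineOpen_tOpen hB).fromSpec.continuous
  rw [← PrimeSpectrum.le_iff_specializes]
  intro a ha
  have := h (Ideal.mem_comap.1 ha)
  simpa [primeOf, Ideal.mem_comap] using this

theorem mem_primeOf_iff {z : 𝔸(n; Y)} (hz : z ∈ tOpen n B) (q : MvPolynomial n Γ(Y, B)) :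
    q ∈ primeOf hB hz ↔ z ∉ (𝔸(n; Y)).basicOpen ((coordEquiv hB).symm q) := by
  letI := (𝔸(n; Y)).presheaf.algebra_section_stalk (⟨z, hz⟩ : tOpen n B)
  haveI := (isAffineOpen_tOpen hB).isLocalization_stalk ⟨z, hz⟩
  rw [(𝔸(n; Y)).mem_basicOpen _ z hz]
  exact ((IsLocalization.AtPrime.isUnit_to_map_iff ((𝔸(n; Y)).presheaf.stalk z)
    ((isAffineOpen_tOpen hB).primeIdealOf ⟨z, hz⟩).asIdeal ((coordEquiv hB).symm q)).not.trans not_not).symm

theorem comap_C_primeOf {z : 𝔸(n; Y)} (hz : z ∈ tOpen n B) (r : Γ(Y, B)) :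
    MvPolynomial.C r ∈ primeOf hB hz ↔ r ∈ (hB.primeIdealOf ⟨(𝔸(n; Y) ↘ Y).base z, hz⟩).asIdeal := by
  have h := IsAffineOpen.comap_primeIdealOf_appLE (f := 𝔸(n; Y) ↘ Y) B hB (tOpen n B) (isAffineOpen_tOpen hB)
    le_rfl hz
  rw [← h, primeOf, Ideal.mem_comap, RingEquiv.toRingHom_eq_coe, RingEquiv.coe_toRingHom, coordEquiv_symm_C,
    PrimeSpectrum.comap_asIdeal, Ideal.mem_comap, Scheme.Hom.app_eq_appLE]

theorem property_affineSpace {P : MorphismProperty Scheme.{u}} [IsZariskiLocalAtTarget P] [P.RespectsIso]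
    (h : ∀ R : CommRingCat.{u}, P (Spec.map (CommRingCat.ofHom (MvPolynomial.C : R →+* MvPolynomial n R)))) :
    P (𝔸(n; Y) ↘ Y) := by
  refine IsZariskiLocalAtTarget.of_iSup_eq_top (fun U : Y.affineOpens => (U : Y.Opens))
    (iSup_affineOpens_eq_top Y) fun U => ?_
  let f₀ := Spec.map (CommRingCat.ofHom (MvPolynomial.C : Γ(Y, U.1) →+* MvPolynomial n Γ(Y, U.1))) ≫
    U.2.isoSpec.inv
  have h1 : P f₀ := MorphismProperty.RespectsIso.postcomp (P := P) _ _ (h _)
  have h2 : IsPullback f₀ (chartMap U.2) U.1.ι (𝔸(n; Y) ↘ Y) := by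
    refine ((isPullback_chartMap U.2).of_iso (Iso.refl _) (Iso.refl _) U.2.isoSpec.symm (Iso.refl _) ?_ ?_ ?_ ?_).flip
    · exact (Category.comp_id _).trans (Category.id_comp _).symm
    · exact (Category.id_comp _).symm
    · exact (Category.comp_id _).trans (Category.id_comp _).symm
    · exact (Category.comp_id _).trans U.2.isoSpec_inv_ι.symm
  rw [← (isPullback_morphismRestrict (𝔸(n; Y) ↘ Y) U.1).isoIsPullback_hom_fst _ _ h2]
  exact MorphismProperty.RespectsIso.precomp (P := P) _ _ h1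

theorem flat_affineSpace : Flat (𝔸(n; Y) ↘ Y) := by
  refine property_affineSpace (P := @Flat) fun R => Flat.SpecMap_iff.2 ?_
  exact (RingHom.flat_algebraMap_iff (R := R) (S := MvPolynomial n R)).2 inferInstance

theorem lfp_affineSpace : LocallyOfFinitePresentation (𝔸(n; Y) ↘ Y) := by
  refine property_affineSpace (P := @LocallyOfFinitePresentation) fun R =>
    (HasRingHomProperty.Spec_iff (P := @LocallyOfFinitePresentation)).2 ?_
  exact (RingHom.finitePresentation_algebraMap (A := R) (B := MvPolynomial n R)).2 inferInstance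

variable (n) in
/-- Affine space over an integral noetherian scheme is integral. -/
theorem isIntegral_affineSpace [IsIntegral Y] [IsLocallyNoetherian Y] : IsIntegral 𝔸(n; Y) := by
  haveI := flat_affineSpace (n := n) (Y := Y)
  haveI := lfp_affineSpace (n := n) (Y := Y)
  exact GeometricallyIntegral.isIntegral_of_isLocallyNoetherian (𝔸(n; Y) ↘ Y)

variable [IsIntegral 𝔸(n; Y)]

/-- The rational function field as fractions of a chart. -/
@[instance_reducible]
def polyAlgebra [Nonempty (tOpen n B)] : Algebra (MvPolynomial n Γ(Y, B)) (𝔸(n; Y)).functionField :=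
  (((𝔸(n; Y)).germToFunctionField (tOpen n B)).hom.comp (coordEquiv hB).symm.toRingHom).toAlgebra

theorem isFractionRing_poly [Nonempty (tOpen n B)] :
    letI := polyAlgebra (n := n) hB
    IsFractionRing (MvPolynomial n Γ(Y, B)) (𝔸(n; Y)).functionField := by
  haveI := functionField_isFractionRing_of_isAffineOpen 𝔸(n; Y) (tOpen n B) (isAffineOpen_tOpen hB)
  exact (IsFractionRing.isFractionRing_iff_of_base_ringEquiv _ (coordEquiv hB)).1 inferInstance

theorem isUnitAt_iff_unitP [Nonempty (tOpen n B)] {z : 𝔸(n; Y)} (hz : z ∈ tOpen n B)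
    (c : (𝔸(n; Y)).functionField) :
    letI := polyAlgebra (n := n) hB
    IsUnitAt z c ↔ UnitP (primeOf hB hz) c := by
  letI := polyAlgebra (n := n) hB
  let W := 𝔸(n; Y)
  letI := W.presheaf.algebra_section_stalk (⟨z, hz⟩ : tOpen n B)
  haveI := (isAffineOpen_tOpen hB).isLocalization_stalk ⟨z, hz⟩
  have hq : ∀ q, q ∉ primeOf hB hz ↔
      IsUnit (algebraMap Γ(W, tOpen n B) (W.presheaf.stalk z) ((coordEquiv hB).symm q)) := fun q =>
    (IsLocalization.AtPrime.isUnit_to_map_iff (W.presheaf.stalk z)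
      ((isAffineOpen_tOpen hB).primeIdealOf ⟨z, hz⟩).asIdeal ((coordEquiv hB).symm q)).symm
  have hK : ∀ q : Γ(W, tOpen n B), algebraMap (W.presheaf.stalk z) W.functionField
      (algebraMap Γ(W, tOpen n B) (W.presheaf.stalk z) q) = W.germToFunctionField (tOpen n B) q :=
    fun q => W.algebraMap_germ_eq_germToFunctionField hz q
  constructor
  · intro hu
    obtain ⟨u, hu', rfl⟩ := isUnitAt_iff_stalk.1 hu
    obtain ⟨⟨a, s⟩, has⟩ := IsLocalization.surj ((isAffineOpen_tOpen hB).primeIdealOf ⟨z, hz⟩).asIdeal.primeCompl u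
    refine ⟨coordEquiv hB a, coordEquiv hB s, (hq _).2 ?_, (hq _).2 ?_, ?_⟩
    · rw [RingEquiv.symm_apply_apply, ← has]
      exact IsUnit.mul hu' (IsLocalization.map_units _ s)
    · rw [RingEquiv.symm_apply_apply]
      exact IsLocalization.map_units _ s
    · show _ * W.germToFunctionField (tOpen n B) ((coordEquiv hB).symm (coordEquiv hB s)) =
        W.germToFunctionField (tOpen n B) ((coordEquiv hB).symm (coordEquiv hB a))
      rw [RingEquiv.symm_apply_apply, RingEquiv.symm_apply_apply, ← hK, ← hK, ← map_mul, has]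
  · rintro ⟨a, b, ha, hb, e⟩
    obtain ⟨ua, hua⟩ := (hq a).1 ha
    obtain ⟨ub, hub⟩ := (hq b).1 hb
    refine isUnitAt_of_stalk (u := ↑(ua * ub⁻¹)) (Units.isUnit _) ?_
    have hb0 : algebraMap (W.presheaf.stalk z) W.functionField (ub : W.presheaf.stalk z) ≠ 0 :=
      (ub.isUnit.map _).ne_zero
    refine mul_right_cancel₀ hb0 ?_
    rw [← map_mul, Units.val_mul, Units.inv_mul_cancel_right, hua, hub, hK, hK]
    exact e.symm

end GrothLib.PicAff26
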