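import Groth.Agent.Lib.Cube.HeightOne
import Groth.Agent.Lib.InvExt.PrimeCorr
import Groth.Agent.Lib.SpecDense.Core
import Mathlib.RingTheory.MvPolynomial.Localization
import Mathlib.RingTheory.Polynomial.Quotient

/-!
# Orders of rational functions on affine space over a normal ring
-/

universe u

open MvPolynomial

noncomputable section

namespace GrothLib.PicAff26

open GrothLib.InvExt

theorem UnitP.congr_mul {A K : Type u} [CommRing A] [Field K] [Algebra A K] {P : Ideal A} [P.IsPrime]
    {c d : K} (hc : UnitP P c) (hd : RegP P d) : RegP P (c * d) := by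
  obtain ⟨a, b, -, hb, e⟩ := hc
  obtain ⟨a', b', hb', e'⟩ := hd
  exact ⟨a * a', b * b', ‹P.IsPrime›.mul_notMem hb hb', by rw [map_mul, map_mul, ← e, ← e']; ring⟩

theorem RegP.mul {A K : Type u} [CommRing A] [Field K] [Algebra A K] {P : Ideal A} [P.IsPrime]
    {c d : K} (hc : RegP P c) (hd : RegP P d) : RegP P (c * d) := by
  obtain ⟨a, b, hb, e⟩ := hc
  obtain ⟨a', b', hb', e'⟩ := hd
  exact ⟨a * a', b * b', ‹P.IsPrime›.mul_notMem hb hb', by rw [map_mul, map_mul, ← e, ← e']; ring⟩

theorem unitP_mono {A K : Type u} [CommRing A] [Field K] [Algebra A K] {P Q : Ideal A} (h : Q ≤ P)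
    {c : K} (hc : UnitP P c) : UnitP Q c := by
  obtain ⟨a, b, ha, hb, e⟩ := hc
  exact ⟨a, b, fun h' => ha (h h'), fun h' => hb (h h'), e⟩

section Normal

variable {C : Type u} [CommRing C] [IsDomain C] [IsNoetherianRing C] [IsIntegrallyClosed C]
  {K : Type u} [Field K] [Algebra C K] [IsFractionRing C K]

/-- Regularity at a prime of a normal noetherian domain is tested at the height one primes below. -/
theorem regP_of_height_one {P : Ideal C} [P.IsPrime] {c : K}
    (h : ∀ Q : Ideal C, Q.IsPrime → Q ≤ P → Q.height = 1 → RegP Q c) : RegP P c := by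
  obtain ⟨a, b, hb, rfl⟩ := IsFractionRing.div_surjective C c
  have hb0 : b ≠ 0 := nonZeroDivisors.ne_zero hb
  let L := Localization.AtPrime P
  haveI : IsDomain L := IsLocalization.isDomain_localization P.primeCompl_le_nonZeroDivisors
  haveI : IsIntegrallyClosed L :=
    isIntegrallyClosed_of_isLocalization L P.primeCompl P.primeCompl_le_nonZeroDivisors
  haveI : IsNoetherianRing L := IsLocalization.isNoetherianRing P.primeCompl _ inferInstance
  have hinj : Function.Injective (algebraMap C L) := IsLocalization.injective L P.primeCompl_le_nonZeroDivisors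
  have hbL : algebraMap C L b ≠ 0 := (map_ne_zero_iff _ hinj).2 hb0
  have hmem : algebraMap L L (algebraMap C L a) ∈ Ideal.span {algebraMap L L (algebraMap C L b)} := by
    refine Cube.mem_span_of_forall_height_one hbL (algebraMap C L a) fun p hp hp1 => ?_
    haveI := hp
    have hle : p.under C ≤ P :=
      le_of_le_of_eq (Ideal.comap_mono (IsLocalRing.le_maximalIdeal hp.ne_top))
        (IsLocalization.AtPrime.comap_maximalIdeal L P)
    obtain ⟨x, s, hs, e⟩ := h (p.under C) inferInstance hle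
      (by rw [IsLocalization.height_under P.primeCompl p, hp1])
    have e2 : a * s = x * b := by
      apply IsFractionRing.injective C K
      rw [map_mul, map_mul, ← e]
      have : algebraMap C K b ≠ 0 := IsFractionRing.to_map_ne_zero_of_mem_nonZeroDivisors hb
      field_simp
    exact ⟨algebraMap C L s, hs, Ideal.mem_span_singleton'.2 ⟨algebraMap C L x, by
      simp only [Algebra.algebraMap_self, RingHom.id_apply]
      rw [← map_mul, ← map_mul, ← e2, mul_comm]⟩⟩
  simp only [Algebra.algebraMap_self, RingHom.id_apply] at hmem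
  obtain ⟨l, hl⟩ := Ideal.mem_span_singleton'.1 hmem
  obtain ⟨⟨x, s⟩, hxs⟩ := IsLocalization.surj P.primeCompl l
  refine ⟨x, s, s.2, ?_⟩
  have e2 : a * (s : C) = x * b := hinj (by
    rw [map_mul, map_mul, ← hl, mul_right_comm, hxs])
  have : algebraMap C K b ≠ 0 := IsFractionRing.to_map_ne_zero_of_mem_nonZeroDivisors hb
  rw [div_mul_eq_mul_div, div_eq_iff this, ← map_mul, ← map_mul, e2]

/-- A fraction regular with regular inverse is a unit. -/
theorem unitP_of_regP {P : Ideal C} [P.IsPrime] {c : K} (hc0 : c ≠ 0) (h₁ : RegP P c) (h₂ : RegP P c⁻¹) :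
    UnitP P c := by
  obtain ⟨a, b, hb, e⟩ := h₁
  obtain ⟨a', b', hb', e'⟩ := h₂
  refine ⟨a, b, fun ha => ?_, hb, e⟩
  have e3 : b * b' = a * a' := by
    apply IsFractionRing.injective C K
    rw [map_mul, map_mul, ← e, ← e']
    field_simp
  exact (‹P.IsPrime›.mul_notMem hb hb') (e3 ▸ P.mul_mem_right _ ha)

theorem unitP_of_height_one {P : Ideal C} [P.IsPrime] {c : K} (hc0 : c ≠ 0)
    (h : ∀ Q : Ideal C, Q.IsPrime → Q ≤ P → Q.height = 1 → UnitP Q c) : UnitP P c :=
  unitP_of_regP hc0 (regP_of_height_one fun Q hQ hle h1 => (h Q hQ hle h1).regP)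
    (regP_of_height_one fun Q hQ hle h1 => (h Q hQ hle h1).inv.regP)

end Normal

section Poly

variable {n : Type u} [Finite n] {A : Type u} [CommRing A] [IsDomain A] [IsNoetherianRing A]
  [IsIntegrallyClosed A]

theorem isIntegrallyClosed_poly : IsIntegrallyClosed (MvPolynomial n A) := by
  have := Fintype.ofFinite n
  exact IsIntegrallyClosed.of_equiv (renameEquiv A (Fintype.equivFin n).symm).toRingEquiv

theorem isPrime_map_C (p : Ideal A) [p.IsPrime] : (p.map (C : A →+* (MvPolynomial n A))).IsPrime := by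
  rw [← Ideal.Quotient.isDomain_iff_prime]
  exact (quotientEquivQuotientMvPolynomial p).symm.toMulEquiv.isDomain _

theorem comap_map_C (p : Ideal A) : (p.map (C : A →+* (MvPolynomial n A))).comap C = p := by
  refine le_antisymm (fun x hx => ?_) Ideal.le_comap_map
  have := mem_map_C_iff.1 (Ideal.mem_comap.1 hx) 0
  rwa [coeff_zero_C] at this

/-- A height one prime meeting the base is extended from a height one prime. -/
theorem eq_map_C_of_height_one {Q : Ideal (MvPolynomial n A)} [Q.IsPrime] (hQ : Q.height = 1) (h : Q.comap C ≠ ⊥) :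
    (Q.comap (C : A →+* (MvPolynomial n A))).height = 1 ∧ Q = (Q.comap C).map C := by
  have hmap : ∀ q : Ideal A, q.IsPrime → q ≠ ⊥ → q ≤ Q.comap C → q.map C = Q := by
    intro q hq hq0 hle
    haveI := isPrime_map_C (n := n) q
    have hle' : q.map C ≤ Q := Ideal.map_le_iff_le_comap.2 hle
    refine hle'.eq_of_not_lt fun hlt => ?_
    have h1 := Ideal.height_strict_mono_of_isPrime_of_isPrime hlt
    rw [hQ, Order.lt_one_iff, Ideal.height_eq_zero_iff_eq_bot] at h1
    exact hq0 ((Ideal.map_eq_bot_iff_of_injective (C_injective n A)).1 h1)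
  refine ⟨le_antisymm ?_ (Order.one_le_iff_pos.2 ?_), (hmap _ inferInstance h le_rfl).symm⟩
  · obtain ⟨x, hx, hx0⟩ := Submodule.exists_mem_ne_zero_of_ne_bot h
    obtain ⟨q, hq, hle⟩ := Ideal.exists_minimalPrimes_le ((Ideal.span_singleton_le_iff_mem (I := Q.comap C)).2 hx)
    haveI : q.IsPrime := hq.1.1
    have hq0 : q ≠ ⊥ := fun h0 => hx0 (by
      have h2 := hq.1.2 (Ideal.mem_span_singleton_self x)
      rwa [h0, Ideal.mem_bot] at h2)
    have e : q = Q.comap C := by
      have e1 := congrArg (Ideal.comap (C : A →+* (MvPolynomial n A))) (hmap q inferInstance hq0 hle)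
      rwa [comap_map_C] at e1
    rw [← e]
    exact Ideal.height_le_one_of_isPrincipal_of_mem_minimalPrimes (Ideal.span {x}) q hq
  · rw [pos_iff_ne_zero, Ne, Ideal.height_eq_zero_iff_eq_bot]
    exact h

variable {K : Type u} [Field K] [Algebra (MvPolynomial n A) K] [IsFractionRing (MvPolynomial n A) K]

/-- The order along a vertical prime divisor is detected by a section through it. -/
theorem unitP_map_C (p : Ideal A) [p.IsPrime] (hp : p.height = 1) (ε : (MvPolynomial n A) →+* A)
    (hε : ∀ a, ε (C a) = a) (c : K) (hc : c ≠ 0)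
    (h0 : ∀ Q : Ideal (MvPolynomial n A), Q.IsPrime → Q ≤ p.comap ε → Q.comap C = ⊥ → UnitP Q c)
    (hev : ∃ (a₀ b₀ : (MvPolynomial n A)) (u v : A), ε b₀ ≠ 0 ∧ c * algebraMap (MvPolynomial n A) K b₀ = algebraMap (MvPolynomial n A) K a₀ ∧
      u ∉ p ∧ v ∉ p ∧ ε a₀ * v = ε b₀ * u) :
    UnitP (p.map (C : A →+* MvPolynomial n A)) c := by
  haveI := isIntegrallyClosed_poly (n := n) (A := A)
  haveI := isPrime_map_C (n := n) p
  obtain ⟨π, hπp, hπ0, -, hπgen⟩ := Cube.exists_uniformiser hp
  have hCπ0 : (C π : (MvPolynomial n A)) ≠ 0 := (map_ne_zero_iff _ (C_injective n A)).2 hπ0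
  have hCπ : C π ∈ p.map (C : A →+* (MvPolynomial n A)) := Ideal.mem_map_of_mem C hπp
  have hgen : ∀ x ∈ p.map (C : A →+* (MvPolynomial n A)), ∃ u y : (MvPolynomial n A), u ∉ p.map C ∧ u * x = C π * y := by
    intro x hx
    refine Submodule.span_induction ?_ ?_ ?_ ?_ hx
    · rintro _ ⟨a, ha, rfl⟩
      obtain ⟨u, y, hu, huy⟩ := hπgen a ha
      refine ⟨C u, C y, fun h => hu ?_, by rw [← map_mul, huy, map_mul]⟩
      rw [← comap_map_C (n := n) p]
      exact h
    · exact ⟨1, 0, fun h => Ideal.IsPrime.ne_top' ((Ideal.eq_top_iff_one _).2 h), by rw [mul_zero, mul_zero]⟩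
    · rintro x y - - ⟨u, z, hu, huz⟩ ⟨u', z', hu', huz'⟩
      exact ⟨u * u', u' * z + u * z', Ideal.IsPrime.mul_notMem inferInstance hu hu', by
        linear_combination u' * huz + u * huz'⟩
    · rintro a x - ⟨u, z, hu, huz⟩
      exact ⟨u, a * z, hu, by rw [smul_eq_mul]; linear_combination a * huz⟩
  have hht : (p.map (C : A →+* (MvPolynomial n A))).height = 1 := by
    refine le_antisymm (Ideal.height_le_one_of_isPrincipal_of_mem_minimalPrimes (Ideal.span {C π}) _
      ⟨⟨inferInstance, (Ideal.span_singleton_le_iff_mem (I := p.map C)).2 hCπ⟩, ?_⟩) (Order.one_le_iff_pos.2 ?_)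
    · rintro q ⟨hq, hle⟩ hqp
      refine Ideal.map_le_iff_le_comap.2 fun a ha => ?_
      obtain ⟨u, y, hu, huy⟩ := hπgen a ha
      have h1 : C u * C a ∈ q := by
        rw [← map_mul, huy, map_mul]
        exact q.mul_mem_right _ (hle (Ideal.mem_span_singleton_self _))
      refine (hq.mem_or_mem h1).resolve_left fun h => hu ?_
      rw [← comap_map_C (n := n) p]
      exact hqp h
    · rw [pos_iff_ne_zero, Ne, Ideal.height_eq_zero_iff_eq_bot]
      intro h
      exact hCπ0 ((Ideal.mem_bot).1 (h ▸ hCπ))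
  obtain ⟨ϖ, hϖp, hϖ0, hord, -⟩ := Cube.exists_uniformiser hht
  obtain ⟨u', y, hu', huy⟩ := hgen ϖ hϖp
  have hy : y ∉ p.map (C : A →+* (MvPolynomial n A)) := by
    obtain ⟨k, u, v, hu, hv, huv⟩ := hord (C π) hCπ0
    rcases k with _ | _ | k
    · rw [pow_zero, mul_one] at huv
      exact absurd (huv ▸ Ideal.mul_mem_left _ u hCπ) hv
    · intro hy
      rw [pow_one] at huv
      have e : u * u' = v * y := mul_right_cancel₀ hCπ0 (by linear_combination u' * huv + v * huy)
      exact Ideal.IsPrime.mul_notMem inferInstance hu hu' (e ▸ Ideal.mul_mem_left _ v hy)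
    · have e : u * u' = v * y * ϖ ^ (k + 1) := mul_right_cancel₀ hCπ0
        (by linear_combination u' * huv + v * ϖ ^ (k + 1) * huy)
      exact absurd (e ▸ Ideal.mul_mem_left _ (v * y) (Ideal.pow_mem_of_mem _ hϖp _ (Nat.succ_pos k)))
        (Ideal.IsPrime.mul_notMem inferInstance hu hu')
  have hord' : ∀ x : (MvPolynomial n A), x ≠ 0 → ∃ (N : ℕ) (u v : (MvPolynomial n A)), u ∉ p.map C ∧ v ∉ p.map C ∧ u * x = v * C π ^ N := by
    intro x hx
    obtain ⟨N, u, v, hu, hv, huv⟩ := hord x hx
    refine ⟨N, u * u' ^ N, v * y ^ N, Ideal.IsPrime.mul_notMem inferInstance hu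
      (fun h => hu' (Ideal.IsPrime.mem_of_pow_mem inferInstance N h)),
      Ideal.IsPrime.mul_notMem inferInstance hv (fun h => hy (Ideal.IsPrime.mem_of_pow_mem inferInstance N h)), ?_⟩
    calc u * u' ^ N * x = v * (u' * ϖ) ^ N := by rw [mul_pow]; linear_combination u' ^ N * huv
      _ = _ := by rw [huy, mul_pow]; ring
  obtain ⟨a, b, hb, rfl⟩ := IsFractionRing.div_surjective (MvPolynomial n A) c
  have hb0 : b ≠ 0 := nonZeroDivisors.ne_zero hb
  have ha0 : a ≠ 0 := fun h => hc (by rw [h, map_zero, zero_div])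
  obtain ⟨N, u₁, v₁, hu₁, hv₁, e₁⟩ := hord' a ha0
  obtain ⟨M, u₂, v₂, hu₂, hv₂, e₂⟩ := hord' b hb0
  have hne : ∀ x : (MvPolynomial n A), x ≠ 0 → algebraMap (MvPolynomial n A) K x ≠ 0 := fun x hx =>
    IsFractionRing.to_map_ne_zero_of_mem_nonZeroDivisors (mem_nonZeroDivisors_of_ne_zero hx)
  have nz : ∀ {x : (MvPolynomial n A)}, x ∉ p.map C → algebraMap (MvPolynomial n A) K x ≠ 0 := fun hx => hne _ fun h => hx (h ▸ Ideal.zero_mem _)
  set w : K := algebraMap (MvPolynomial n A) K (v₁ * u₂) / algebraMap (MvPolynomial n A) K (u₁ * v₂) with hw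
  have hwc : algebraMap (MvPolynomial n A) K a / algebraMap (MvPolynomial n A) K b * algebraMap (MvPolynomial n A) K (C π) ^ M =
      algebraMap (MvPolynomial n A) K (C π) ^ N * w := by
    have h1 := congrArg (algebraMap (MvPolynomial n A) K) e₁
    have h2 := congrArg (algebraMap (MvPolynomial n A) K) e₂
    simp only [map_mul, map_pow] at h1 h2
    have := nz hu₁
    have := nz hv₂
    have := hne b hb0
    simp only [hw, map_mul]
    field_simp
    linear_combination
      algebraMap (MvPolynomial n A) K (C π) ^ M * algebraMap (MvPolynomial n A) K v₂ * h1 -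
        algebraMap (MvPolynomial n A) K v₁ * algebraMap (MvPolynomial n A) K (C π) ^ N * h2
  have hwp : UnitP (p.map (C : A →+* MvPolynomial n A)) w := by
    refine ⟨v₁ * u₂, u₁ * v₂, Ideal.IsPrime.mul_notMem inferInstance hv₁ hu₂,
      Ideal.IsPrime.mul_notMem inferInstance hu₁ hv₂, ?_⟩
    rw [hw, div_mul_cancel₀ _ (nz (Ideal.IsPrime.mul_notMem inferInstance hu₁ hv₂))]
  have hw0 : w ≠ 0 := by
    obtain ⟨x, y, hx, -, exy⟩ := hwp
    intro h
    rw [h, zero_mul] at exy
    exact nz hx exy.symm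
  haveI : (p.comap ε).IsPrime := Ideal.comap_isPrime ε p
  obtain ⟨s, t, hs, ht, est⟩ := unitP_of_height_one (P := p.comap ε) hw0 fun Q hQ hle h1 => by
    by_cases hQ0 : Q.comap (C : A →+* (MvPolynomial n A)) = ⊥
    · have hπQ : C π ∉ Q := fun h => hπ0 (by
        have : π ∈ Q.comap (C : A →+* (MvPolynomial n A)) := h
        rwa [hQ0, Ideal.mem_bot] at this)
      have e : w = algebraMap (MvPolynomial n A) K a / algebraMap (MvPolynomial n A) K b * algebraMap (MvPolynomial n A) K (C π) ^ (M : ℤ) *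
          (algebraMap (MvPolynomial n A) K (C π) ^ (N : ℤ))⁻¹ := by
        rw [zpow_natCast, zpow_natCast, hwc, mul_comm (algebraMap (MvPolynomial n A) K (C π) ^ N),
          mul_inv_cancel_right₀ (pow_ne_zero _ (hne _ hCπ0))]
      rw [e]
      exact ((h0 Q hQ hle hQ0).mul ((unitP_algebraMap hπQ).zpow _)).mul ((unitP_algebraMap hπQ).zpow _).inv
    · obtain ⟨hq1, hqe⟩ := eq_map_C_of_height_one h1 hQ0
      have : Q.comap (C : A →+* (MvPolynomial n A)) = p := by
        have hle' : Q.comap (C : A →+* (MvPolynomial n A)) ≤ p := fun x hx => by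
          have := hle (Ideal.mem_comap.1 hx)
          rwa [Ideal.mem_comap, hε] at this
        refine hle'.eq_of_not_lt fun hlt => ?_
        have := Ideal.height_strict_mono_of_isPrime_of_isPrime hlt
        rw [hq1, hp] at this
        exact lt_irrefl _ this
      rw [hqe, this]
      exact hwp
  obtain ⟨a₀, b₀, u, v, hb₀, eab, hu, hv, eev⟩ := hev
  have key : a₀ * C π ^ M * t = C π ^ N * s * b₀ := by
    apply IsFractionRing.injective (MvPolynomial n A) K
    simp only [map_mul, map_pow, ← eab, ← est]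
    linear_combination algebraMap (MvPolynomial n A) K t * algebraMap (MvPolynomial n A) K b₀ * hwc
  have key2 := congrArg ε key
  simp only [map_mul, map_pow, hε] at key2
  have key3 : u * ε t * π ^ M = π ^ N * (ε s * v) :=
    mul_left_cancel₀ hb₀ (by linear_combination v * key2 - π ^ M * ε t * eev)
  have hMN : M = N := by
    rcases lt_trichotomy M N with h | h | h
    · obtain ⟨k, rfl⟩ := Nat.exists_eq_add_of_lt h
      have e : u * ε t = π * (π ^ k * (ε s * v)) :=
        mul_right_cancel₀ (pow_ne_zero M hπ0) (by rw [key3]; ring)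
      exact absurd (e ▸ p.mul_mem_right _ hπp) (Ideal.IsPrime.mul_notMem inferInstance hu ht)
    · exact h
    · obtain ⟨k, rfl⟩ := Nat.exists_eq_add_of_lt h
      have e : ε s * v = π * (π ^ k * (u * ε t)) :=
        mul_left_cancel₀ (pow_ne_zero N hπ0) (by rw [← key3]; ring)
      exact absurd (e ▸ p.mul_mem_right _ hπp) (Ideal.IsPrime.mul_notMem inferInstance (show ε s ∉ p from hs) hv)
  subst hMN
  have e : algebraMap (MvPolynomial n A) K a / algebraMap (MvPolynomial n A) K b = w :=
    mul_right_cancel₀ (pow_ne_zero M (hne _ hCπ0)) (hwc.trans (mul_comm _ _))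
  rw [e]
  exact hwp

/-- A correction making prescribed rational functions units on the generic fibre. -/
theorem exists_generic_correction {g : (MvPolynomial n A)} (hg : g ≠ 0) (r : Ideal (MvPolynomial n A) → K) (hr : ∀ P, r P ≠ 0)
    (good : Ideal (MvPolynomial n A) → Prop)
    (hrg : ∀ Q : Ideal (MvPolynomial n A), Q.IsPrime → Q.comap C = ⊥ → good Q → g ∉ Q → UnitP Q (r Q))
    (hcompat : ∀ P Q : Ideal (MvPolynomial n A), P.IsPrime → Q.IsPrime → P.comap C = ⊥ → good P → Q ≤ P →
      good Q ∧ UnitP Q (r P / r Q)) :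
    ∃ F : K, F ≠ 0 ∧ ∀ P : Ideal (MvPolynomial n A), P.IsPrime → P.comap C = ⊥ → good P → UnitP P (F * r P) := by
  classical
  haveI := isIntegrallyClosed_poly (n := n) (A := A)
  let M : Submonoid (MvPolynomial n A) := (nonZeroDivisors A).map (C : A →+* (MvPolynomial n A))
  letI : Algebra (MvPolynomial n A) (MvPolynomial n (FractionRing A)) := algebraMvPolynomial
  haveI : IsLocalization M (MvPolynomial n (FractionRing A)) := MvPolynomial.isLocalization _ _
  let C' := MvPolynomial n (FractionRing A)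
  have hM : M ≤ nonZeroDivisors (MvPolynomial n A) := by
    rintro _ ⟨a, ha, rfl⟩
    exact mem_nonZeroDivisors_of_ne_zero ((map_ne_zero_iff _ (C_injective n A)).2 (nonZeroDivisors.ne_zero ha))
  have hunit : ∀ x : M, IsUnit (algebraMap (MvPolynomial n A) K x) := fun x =>
    isUnit_iff_ne_zero.2 (IsFractionRing.to_map_ne_zero_of_mem_nonZeroDivisors (hM x.2))
  letI : Algebra C' K := (IsLocalization.lift (S := C') hunit).toAlgebra
  haveI : IsScalarTower (MvPolynomial n A) C' K := IsScalarTower.of_algebraMap_eq fun x =>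
    (IsLocalization.lift_eq (S := C') hunit x).symm
  haveI : IsFractionRing C' K := IsFractionRing.isFractionRing_of_isDomain_of_isLocalization M C' K
  have hdisj : ∀ Q : Ideal (MvPolynomial n A), Q.IsPrime → (Q.comap C = ⊥ ↔ Disjoint (M : Set (MvPolynomial n A)) (Q : Set (MvPolynomial n A))) := by
    intro Q hQ
    rw [Set.disjoint_left]
    refine ⟨?_, fun h => ?_⟩
    · rintro h _ ⟨a, ha, rfl⟩ hx
      have h2 : a ∈ Q.comap (C : A →+* (MvPolynomial n A)) := hx
      rw [h, Ideal.mem_bot] at h2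
      exact nonZeroDivisors.ne_zero ha h2
    · refine (Submodule.eq_bot_iff _).2 fun a ha => by_contra fun ha0 => ?_
      exact h ⟨a, mem_nonZeroDivisors_of_ne_zero ha0, rfl⟩ ha
  let r' : Ideal (MvPolynomial n A) → K := fun Q => if good Q then r Q else 1
  have hg' : algebraMap (MvPolynomial n A) C' g ≠ 0 := fun h => hg (IsLocalization.injective C' hM (h.trans (map_zero _).symm))
  have hc0 : ∀ q : Ideal C', r' (q.under (MvPolynomial n A)) ≠ 0 := fun q => by
    by_cases h : good (q.under (MvPolynomial n A))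
    · simp only [r', if_pos h]; exact hr _
    · simp only [r', if_neg h]; exact one_ne_zero
  obtain ⟨F, hF0, hF⟩ := exists_unitP_correction (K := K) hg' (fun q => r' (q.under (MvPolynomial n A))) hc0 fun p hp hpg => by
    haveI : (Ideal.span {p}).IsPrime := (Ideal.span_singleton_prime hp.ne_zero).mpr hp
    haveI : ((Ideal.span {p}).under (MvPolynomial n A)).IsPrime := Ideal.comap_isPrime _ _
    have hd : ((Ideal.span {p}).under (MvPolynomial n A)).comap C = ⊥ := (hdisj _ inferInstance).2
      ((IsLocalization.isPrime_iff_isPrime_disjoint M C' _).1 inferInstance).2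
    show UnitP _ (r' _)
    by_cases hgood : good ((Ideal.span {p}).under (MvPolynomial n A))
    · simp only [r', if_pos hgood]
      obtain ⟨x, y, hx, hy, exy⟩ := hrg _ inferInstance hd hgood fun h =>
        hpg (Ideal.mem_span_singleton.1 (Ideal.mem_comap.1 h))
      refine ⟨algebraMap (MvPolynomial n A) C' x, algebraMap (MvPolynomial n A) C' y, hx, hy, ?_⟩
      rw [← IsScalarTower.algebraMap_apply, ← IsScalarTower.algebraMap_apply, exy]
    · simp only [r', if_neg hgood]
      exact UnitP.one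
  refine ⟨F, hF0, fun P hP hPd hgood => unitP_of_height_one (mul_ne_zero hF0 (hr P)) fun Q hQ hle h1 => ?_⟩
  obtain ⟨hQgood, hPQ⟩ := hcompat P Q hP hQ hPd hgood hle
  have hQd : Q.comap (C : A →+* (MvPolynomial n A)) = ⊥ := le_bot_iff.1 ((Ideal.comap_mono hle).trans hPd.le)
  have hdQ := (hdisj Q hQ).1 hQd
  let q : Ideal C' := Q.map (algebraMap (MvPolynomial n A) C')
  haveI : q.IsPrime := IsLocalization.isPrime_of_isPrime_disjoint M C' Q hQ hdQ
  have hqQ : q.under (MvPolynomial n A) = Q := IsLocalization.comap_map_of_isPrime_disjoint M C' hQ hdQ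
  have hq1 : q.height = 1 := by rw [← IsLocalization.height_under M q, hqQ, h1]
  obtain ⟨p, hpq, hp⟩ := Ideal.IsPrime.exists_mem_prime_of_ne_bot (inferInstance : q.IsPrime)
    (q.ne_bot_of_height_eq_one hq1)
  have hqp : Ideal.span {p} = q := by
    haveI : (Ideal.span {p}).IsPrime := (Ideal.span_singleton_prime hp.ne_zero).mpr hp
    refine ((Ideal.span_singleton_le_iff_mem (I := q)).2 hpq).eq_of_not_lt fun hlt => ?_
    have h2 := Ideal.height_strict_mono_of_isPrime_of_isPrime hlt
    rw [hq1, Order.lt_one_iff, Ideal.height_eq_zero_iff_eq_bot, Ideal.span_singleton_eq_bot] at h2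
    exact hp.ne_zero h2
  have h3 : UnitP q (F * r Q) := by
    have := hF p hp
    simp only [hqp, hqQ, r', if_pos hQgood] at this
    exact this
  have h4 : UnitP Q (F * r Q) := by
    obtain ⟨x, y, hx, hy, exy⟩ := h3
    obtain ⟨⟨x₁, s₁⟩, hs₁⟩ := IsLocalization.surj M x
    obtain ⟨⟨y₁, s₂⟩, hs₂⟩ := IsLocalization.surj M y
    have hs : ∀ s : M, algebraMap (MvPolynomial n A) C' s ∉ q := fun s h =>
      Set.disjoint_left.1 hdQ s.2 (hqQ ▸ (Ideal.mem_comap.2 h : (s : (MvPolynomial n A)) ∈ q.under (MvPolynomial n A)))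
    have hnot : ∀ (z : C') (z₁ : (MvPolynomial n A)) (s : M), z * algebraMap (MvPolynomial n A) C' s = algebraMap (MvPolynomial n A) C' z₁ → z ∉ q →
        z₁ ∉ Q := fun z z₁ s e hz h => by
      have : algebraMap (MvPolynomial n A) C' z₁ ∈ q := Ideal.mem_map_of_mem _ h
      rw [← e] at this
      exact ((‹q.IsPrime›).mem_or_mem this).elim hz (hs s)
    refine ⟨x₁ * s₂, y₁ * s₁, Ideal.IsPrime.mul_notMem hQ (hnot x x₁ s₁ hs₁ hx) (Set.disjoint_left.1 hdQ s₂.2),
      Ideal.IsPrime.mul_notMem hQ (hnot y y₁ s₂ hs₂ hy) (Set.disjoint_left.1 hdQ s₁.2), ?_⟩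
    rw [map_mul, map_mul, IsScalarTower.algebraMap_apply (MvPolynomial n A) C' K x₁, IsScalarTower.algebraMap_apply (MvPolynomial n A) C' K y₁,
      ← hs₁, ← hs₂, map_mul, map_mul, IsScalarTower.algebraMap_apply (MvPolynomial n A) C' K (s₁ : (MvPolynomial n A)),
      IsScalarTower.algebraMap_apply (MvPolynomial n A) C' K (s₂ : (MvPolynomial n A)), ← exy]
    ring
  have e : F * r P = F * r Q * (r P / r Q) := by rw [mul_assoc, mul_div_cancel₀ _ (hr Q)]
  rw [e]
  exact h4.mul hPQ

end Poly

end GrothLib.PicAff26
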