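import Groth.Agent.Lib.PicAff26.Main
import Groth.Agent.Lib.Ample.Criterion
import Groth.Prelude.Def_Pic

/-!
# Picard group of a product with an open of affine space
-/

universe u

open CategoryTheory CategoryTheory.Limits TopologicalSpace AlgebraicGeometry
open GrothLib GrothLib.Ample

set_option backward.isDefEq.respectTransparency false

noncomputable section

namespace GrothLib.PicAff26

variable {n : Type u} [Finite n] {S Y : Scheme.{u}}

/-- A class trivial along the section is trivial. -/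
theorem pic_eq_one [IsIntegral Y] [IsLocallyNoetherian Y] (hY : ∀ y : Y, IsIntegrallyClosed (Y.presheaf.stalk y))
    (U : (𝔸(n; S)).Opens) (g : Y ⟶ S)
    (s : Y ⟶ pullback g (U.ι ≫ (𝔸(n; S) ↘ S))) (hs : s ≫ pullback.fst g (U.ι ≫ (𝔸(n; S) ↘ S)) = 𝟙 Y)
    (x : Cube.Pic (pullback g (U.ι ≫ (𝔸(n; S) ↘ S)))) (hx : Cube.pull s x = 1) : x = 1 := by
  let F := AffineSpace.map n g
  have h1 : IsPullback ((F ⁻¹ᵁ U).ι ≫ (𝔸(n; Y) ↘ Y)) (F ∣_ U) g (U.ι ≫ (𝔸(n; S) ↘ S)) :=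
    (isPullback_morphismRestrict F U).flip.paste_horiz (AffineSpace.isPullback_map g).flip
  let e := h1.isoPullback
  have he : e.inv ≫ (F ⁻¹ᵁ U).ι ≫ (𝔸(n; Y) ↘ Y) = pullback.fst g (U.ι ≫ (𝔸(n; S) ↘ S)) := h1.isoPullback_inv_fst
  obtain ⟨c, hc⟩ : ∃ c, Cube.cls c = Cube.pull e.hom x := ⟨_, Quotient.out_eq (s := Cube.picSetoid _) _⟩
  have hσ : (s ≫ e.inv) ≫ (F ⁻¹ᵁ U).ι ≫ (𝔸(n; Y) ↘ Y) = 𝟙 Y := by rw [Category.assoc, he, hs]
  have h2 : Cube.Triv (c.comap (s ≫ e.inv)) := by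
    rw [← Cube.cls_eq_one_iff, ← Cube.pull_cls, hc, Cube.pull_comp, Category.assoc, Iso.inv_hom_id,
      Category.comp_id, hx]
  have h3 := triv_of_triv_section hY (F ⁻¹ᵁ U) (s ≫ e.inv) hσ c h2
  rw [← Cube.cls_eq_one_iff, hc] at h3
  calc x = Cube.pull e.inv (Cube.pull e.hom x) := by rw [Cube.pull_comp, Iso.inv_hom_id, Cube.pull_id]
    _ = 1 := by rw [h3, map_one]

end GrothLib.PicAff26
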